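import Cfsg.Agent.H129.FE.Lace
import Cfsg.Prelude.Def_ChevF4
import Cfsg.Prelude.Def_ChevE6
import Cfsg.Agent.H129.CycRow
import Cfsg.Agent.S1077
import Cfsg.Agent.S1078
import Cfsg.Agent.S1054
import Cfsg.Agent.ChevFast.E6
import Cfsg.Agent.ChevFast.F4
import Cfsg.Agent.FastGrp
import Cfsg.Agent.Prune
set_option linter.all false

-- part: H129/FE/Tab
section
set_option linter.all false
open scoped Cfsg.Agent.FastGrp

/-!
# Tables of the embedding of `F₄` in `E₆` (helper129)

A long root `r` of `F₄` is a root `A r` of `E₆` fixed by the symmetry, a short root is a pair `{A r, B r}`; `S r = ±1` is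
the sign of the first parameter: `x_r(t) ↦ x_{A r}(S r t) x_{B r}(t)`.
-/

set_option autoImplicit false

namespace Cfsg.Agent.H129.FE

open Cfsg.Lie Cfsg.Agent.ChevalleyStructure.StBasic

def tA : Array ℕ := #[0, 1, 2, 5, 6, 8, 11, 16, 17, 19, 26, 22, 30, 33, 35, 18, 20, 27, 23, 31, 34, 24, 32, 25, 46, 39,
  47, 37, 40, 48, 44, 51, 53, 36, 38, 41, 49, 45, 52, 54, 55, 60, 63, 65, 66, 69, 70, 71]

def tB : Array ℕ := #[1000, 1000, 1000, 3, 1000, 1000, 1000, 4, 7, 9, 12, 10, 13, 14, 15, 1000, 1000, 1000, 21, 28, 29,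
  1000, 1000, 1000, 1000, 1000, 1000, 42, 43, 50, 1000, 1000, 1000, 56, 57, 58, 61, 59, 62, 64, 67, 1000, 1000, 1000,
  68, 1000, 1000, 1000]

def tS : Array ℤ := #[1, 1, 1, 1, 1, 1, 1, -1, -1, -1, -1, -1, 1, -1, 1, 1, 1, 1, 1, -1, 1, -1, 1, 1, 1, 1, -1, 1, -1,
  1, 1, 1, 1, 1, -1, 1, -1, -1, -1, -1, -1, 1, 1, 1, 1, 1, 1, 1]

/-- the first root (out of range: 1000) -/
def A (r : ℕ) : ℕ := tA.getD r 1000

/-- the second root (1000, out of range, for the long roots) -/
def B (r : ℕ) : ℕ := tB.getD r 1000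

/-- the sign -/
def S (r : ℕ) : ℤ := tS.getD r 1

/-- the letters of `x_r(c tⁱ uʲ)` -/
def lw (r : ℕ) (c : ℤ) (i j : ℕ) : List Letter :=
  (A r, S r * c, i, j) :: (if B r < 72 then [(B r, c, i, j)] else [])

/-- the right hand side of the commutator formula -/
def rw4 (r s : ℕ) : List Letter :=
  (chevF4.commTerms r s).flatMap fun c => lw c.1 (c.2.1 * (-1) ^ c.2.2.1) c.2.2.1 c.2.2.2

/-- the left hand side -/
def lw4 (r s : ℕ) : List Letter := winv (lw s 1 0 1) ++ winv (lw r 1 1 0) ++ lw s 1 0 1 ++ lw r 1 1 0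

/-- the ordering used for the pair `(r, s)` -/
def ordL (r s : ℕ) : List ℕ :=
  [A r, B r, A s, B s] ++ (chevF4.commTerms r s).flatMap fun c => [A c.1, B c.1]

/-- the position in a list -/
def posL : List ℕ → ℕ → ℕ
  | [], _ => 0
  | a :: l, x => if a = x then 0 else posL l x + 1

/-- the check for the pair `(r, s)` -/
def chk (r s : ℕ) : Bool :=
  nf chevE6 (posL (ordL r s)) 20 (lw4 r s) == nf chevE6 (posL (ordL r s)) 20 (rw4 r s)

/-- the check of `Laced` -/
def lacedB (D : ChevalleyDatum) (r s : ℕ) : Bool := D.commTerms r s == (ct D r s).map fun q => (q.1, q.2, 1, 1)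

private noncomputable def frc {α : Type} (x : ℕ) (f : ℕ → α) : α := Nat.rec (f 0) (fun k _ => f (Nat.succ k)) x

private theorem frc_eq {α : Type} (x : ℕ) (f : ℕ → α) : frc x f = f x := by cases x <;> rfl

private noncomputable def nth {α : Type} (d : α) (l : List α) : ℕ → α :=
  List.rec (fun _ => d) (fun a _ ih n => Nat.rec a (fun k _ => ih k) n) l

private theorem nth_eq {α : Type} (d : α) (l : List α) (n : ℕ) : nth d l n = l.getD n d := by
  induction l generalizing n with
  | nil => rfl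
  | cons a l ih => cases n with
    | zero => rfl
    | succ k => exact ih k

private theorem nth_arr {α : Type} (d : α) (a : Array α) (n : ℕ) : a.getD n d = nth d a.toList n := by
  rw [nth_eq, List.getD_eq_getElem?_getD, Array.getD_eq_getD_getElem?, Array.getElem?_toList]

private noncomputable def row (D : Cfsg.Lie.ChevalleyDatum) (r : ℕ) : List (ℕ × Array (ℕ × ℤ)) := (nth #[] D.chain.toList r).toList

private noncomputable def fnd (s : ℕ) (l : List (ℕ × Array (ℕ × ℤ))) : List (ℕ × ℤ) :=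
  List.rec [] (fun e _ ih => Bool.rec ih e.2.toList (Nat.beq e.1 s)) l

private theorem ce_eq0 (D : Cfsg.Lie.ChevalleyDatum) (r s : ℕ) : D.chainEntry r s = fnd s (row D r) := by
  unfold Cfsg.Lie.ChevalleyDatum.chainEntry row
  rw [nth_arr]
  generalize (nth #[] D.chain.toList r).toList = l
  induction l with
  | nil => rfl
  | cons e l ih =>
    show _ = (Bool.rec (fnd s l) e.2.toList (Nat.beq e.1 s) : List (ℕ × ℤ))
    by_cases h : e.1 = s
    · rw [List.find?_cons_of_pos (by simpa using h), Nat.beq_eq.mpr h]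
    · rw [List.find?_cons_of_neg (by simpa using h), ih, Bool.eq_false_iff.2 fun h1 => h (Nat.eq_of_beq_eq_true h1)]

private noncomputable def fce (D : Cfsg.Lie.ChevalleyDatum) (r s : ℕ) : List (ℕ × ℤ) := frc r fun r => frc s fun s => fnd s (row D r)

private theorem ce_eq (D : Cfsg.Lie.ChevalleyDatum) : D.chainEntry = fce D := by
  funext r s
  rw [fce, frc_eq, frc_eq, ce_eq0]

private noncomputable def fcr (D : Cfsg.Lie.ChevalleyDatum) (r s i : ℕ) : Option ℕ := ((fce D r s)[i - 1]?).map Prod.fst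

private theorem cr_eq (D : Cfsg.Lie.ChevalleyDatum) : D.chainRoot = fcr D := by
  funext r s i
  rw [fcr, ← ce_eq]; rfl

private noncomputable def fcm (D : Cfsg.Lie.ChevalleyDatum) (r s i : ℕ) : ℤ := (((fce D r s)[i - 1]?).map Prod.snd).getD 0

private theorem cm_eq (D : Cfsg.Lie.ChevalleyDatum) : D.chainM = fcm D := by
  funext r s i
  rw [fcm, ← ce_eq]; rfl

private noncomputable def gct (cr : ℕ → ℕ → ℕ → Option ℕ) (cm : ℕ → ℕ → ℕ → ℤ) (r s : ℕ) : List (ℕ × ℤ × ℕ × ℕ) :=
  ([(cr r s 1, cm r s 1, 1, 1), (cr r s 2, cm r s 2, 2, 1), (cr s r 2, cm s r 2, 1, 2), (cr r s 3, cm r s 3, 3, 1),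
      (cr s r 3, - cm s r 3, 1, 3),
      ((cr r s 3).bind fun k => cr k s 1, ((cr r s 1).map fun k => cm k r 2 / 3).getD 0, 3, 2),
      ((cr s r 3).bind fun k => cr k r 1, ((cr r s 1).map fun k => -2 * cm k s 2 / 3).getD 0, 2, 3)] :
    List (Option ℕ × ℤ × ℕ × ℕ)).filterMap fun c => c.1.map fun k => (k, c.2)

private theorem gct_eq (D : Cfsg.Lie.ChevalleyDatum) (r s : ℕ) : D.commTerms r s = gct (fcr D) (fcm D) r s := by
  rw [← cr_eq, ← cm_eq]; rfl

private noncomputable def msk (l : List (ℕ × Array (ℕ × ℤ))) : ℕ := List.rec 0 (fun e _ ih => Nat.lor ih (Nat.shiftLeft 1 e.1)) l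

private theorem fnd_nil {s : ℕ} {l : List (ℕ × Array (ℕ × ℤ))} (h : (msk l).testBit s = false) : fnd s l = [] := by
  induction l with
  | nil => rfl
  | cons e l ih =>
    have h1 : (msk l ||| 1 <<< e.1).testBit s = false := h
    rw [Nat.testBit_or, Bool.or_eq_false_iff, Nat.one_shiftLeft, Nat.testBit_two_pow] at h1
    show (Bool.rec (fnd s l) e.2.toList (Nat.beq e.1 s) : List (ℕ × ℤ)) = []
    rw [Bool.eq_false_iff.2 fun h2 => of_decide_eq_false h1.2 (Nat.eq_of_beq_eq_true h2)]
    exact ih h1.1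

private noncomputable def fc2 (D : Cfsg.Lie.ChevalleyDatum) (r s : ℕ) : List (ℕ × ℤ) → List (ℕ × ℤ) → List (ℕ × ℤ × ℕ × ℕ)
  | [x], [_] => [(x.1, x.2, 1, 1)]
  | _, _ => gct (fcr D) (fcm D) r s

private noncomputable def fct (D : Cfsg.Lie.ChevalleyDatum) (r s : ℕ) : List (ℕ × ℤ × ℕ × ℕ) :=
  frc r fun r => frc s fun s =>
    Bool.rec (fc2 D r s (fnd s (row D r)) (fnd r (row D s))) []
      (Nat.beq (Nat.land (Nat.lor (Nat.shiftRight (msk (row D r)) s) (Nat.shiftRight (msk (row D s)) r)) 1) 0)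

private theorem ct_eq (D : Cfsg.Lie.ChevalleyDatum) : D.commTerms = fct D := by
  funext r s
  rw [fct, frc_eq, frc_eq]
  cases h : Nat.beq (Nat.land (Nat.lor (Nat.shiftRight (msk (row D r)) s) (Nat.shiftRight (msk (row D s)) r)) 1) 0
  · show _ = fc2 D r s _ _
    rw [← ce_eq0, ← ce_eq0]
    unfold fc2
    split
    · rename_i h1 h2
      unfold Cfsg.Lie.ChevalleyDatum.commTerms Cfsg.Lie.ChevalleyDatum.chainRoot Cfsg.Lie.ChevalleyDatum.chainM
      rw [h1, h2]; rfl
    · exact gct_eq D r s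
  · have h1 : ((msk (row D r) >>> s ||| msk (row D s) >>> r)).testBit 0 = false := by
      have h2 : (msk (row D r) >>> s ||| msk (row D s) >>> r) &&& 1 = 0 := Nat.eq_of_beq_eq_true h
      rw [Nat.and_one_is_mod] at h2
      rw [Nat.testBit_zero, h2]; rfl
    rw [Nat.testBit_or, Bool.or_eq_false_iff, Nat.testBit_shiftRight, Nat.testBit_shiftRight, Nat.add_zero, Nat.add_zero] at h1
    show _ = []
    unfold Cfsg.Lie.ChevalleyDatum.commTerms Cfsg.Lie.ChevalleyDatum.chainRoot Cfsg.Lie.ChevalleyDatum.chainM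
    rw [ce_eq0 D r s, ce_eq0 D s r, fnd_nil h1.1, fnd_nil h1.2]; rfl

private noncomputable def fng (D : Cfsg.Lie.ChevalleyDatum) (r : ℕ) : ℕ := frc r (nth 0 D.negIdx.toList)

private theorem ng_eq (D : Cfsg.Lie.ChevalleyDatum) : D.neg = fng D := by
  funext r
  rw [fng, frc_eq]
  exact nth_arr _ _ _

private noncomputable def fgd {α : Type} (a : Array α) (n : ℕ) (d : α) : α := frc n (nth d a.toList)

private theorem gd_eq {α : Type} (a : Array α) (n : ℕ) (d : α) : a.getD n d = fgd a n d := by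
  rw [fgd, frc_eq, nth_arr]

private noncomputable def frcL {α : Type} (l : List ℕ) : (List ℕ → α) → α :=
  List.rec (motive := fun _ => (List ℕ → α) → α) (fun f => f []) (fun a _ ih f => frc a fun a => ih fun l => f (a :: l)) l

private theorem frcL_eq {α : Type} (l : List ℕ) (f : List ℕ → α) : frcL l f = f l := by
  induction l generalizing f with
  | nil => rfl
  | cons a l ih => exact (frc_eq a fun a => frcL l fun l => f (a :: l)).trans (ih _)

private noncomputable def frcI {α : Type} (x : ℤ) (f : ℤ → α) : α :=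
  Int.rec (fun n => frc n fun n => f (Int.ofNat n)) (fun n => frc n fun n => f (Int.negSucc n)) x

private theorem frcI_eq {α : Type} (x : ℤ) (f : ℤ → α) : frcI x f = f x := by
  cases x with
  | ofNat n => exact frc_eq n fun n => f (Int.ofNat n)
  | negSucc n => exact frc_eq n fun n => f (Int.negSucc n)

private noncomputable def frcW {α : Type} (l : List (ℕ × ℤ × ℕ × ℕ)) : (List (ℕ × ℤ × ℕ × ℕ) → α) → α :=
  List.rec (motive := fun _ => (List (ℕ × ℤ × ℕ × ℕ) → α) → α) (fun f => f []) (fun a _ ih f => frc a.1 fun x => frcI a.2.1 fun c => frc a.2.2.1 fun i => frc a.2.2.2 fun j =>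
    ih fun l => f ((x, c, i, j) :: l)) l

private theorem frcW_eq {α : Type} (l : List (ℕ × ℤ × ℕ × ℕ)) (f : List (ℕ × ℤ × ℕ × ℕ) → α) : frcW l f = f l := by
  induction l generalizing f with
  | nil => rfl
  | cons a l ih =>
    show (frc a.1 fun x => frcI a.2.1 fun c => frc a.2.2.1 fun i => frc a.2.2.2 fun j =>
      frcW l fun l => f ((x, c, i, j) :: l)) = _
    rw [frc_eq, frcI_eq, frc_eq, frc_eq, ih]

private theorem chk_eq (r s : ℕ) : chk r s = frc r fun r => frc s fun s => frcL (ordL r s) fun o => frcW (lw4 r s) fun v =>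
    frcW (rw4 r s) fun w => nf chevE6 (posL o) 20 v == nf chevE6 (posL o) 20 w := by
  rw [frc_eq, frc_eq, frcL_eq, frcW_eq, frcW_eq]; rfl

theorem lacedB_E6_sp0 : ∀ r < 24, ∀ s < 72, lacedB chevE6 r s = true := by
  delta lacedB ct; rw [ct_eq, ce_eq]; decide +kernel
theorem lacedB_E6_sp1 : ∀ r < 24, ∀ s < 72, lacedB chevE6 (r + 24) s = true := by
  delta lacedB ct; rw [ct_eq, ce_eq]; decide +kernel
theorem lacedB_E6_sp2 : ∀ r < 24, ∀ s < 72, lacedB chevE6 (r + 48) s = true := by
  delta lacedB ct; rw [ct_eq, ce_eq]; decide +kernel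

theorem lacedB_E6 : ∀ r < 72, ∀ s < 72, lacedB chevE6 r s = true := by
  intro r hr
  rcases Nat.lt_or_ge r 24 with h | h
  · exact lacedB_E6_sp0 r h
  rcases Nat.lt_or_ge r 48 with h1 | h1
  · obtain ⟨q, rfl⟩ := Nat.exists_eq_add_of_le' h
    exact lacedB_E6_sp1 q (by omega)
  · obtain ⟨q, rfl⟩ := Nat.exists_eq_add_of_le' h1
    exact lacedB_E6_sp2 q (by omega)

theorem laced_E6 : Laced chevE6 := fun r hr s hs _ _ => by
  have h := lacedB_E6 r hr s hs
  rwa [lacedB, beq_iff_eq] at h

theorem chk_all_sp0 : ∀ r < 12, ∀ s < 48, s ≠ r → s ≠ chevF4.neg r → chk r s = true := by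
  simp only [chk_eq]; delta ordL lw4 rw4 lw A B S nf nf._f ins ins._f ct
  rw [ct_eq, ce_eq, ng_eq chevE6, ng_eq chevF4]; simp only [gd_eq]; decide +kernel
theorem chk_all_sp1 : ∀ r < 12, ∀ s < 48, s ≠ r + 12 → s ≠ chevF4.neg (r + 12) → chk (r + 12) s = true := by
  simp only [chk_eq]; delta ordL lw4 rw4 lw A B S nf nf._f ins ins._f ct
  rw [ct_eq, ce_eq, ng_eq chevE6, ng_eq chevF4]; simp only [gd_eq]; decide +kernel
theorem chk_all_sp2 : ∀ r < 12, ∀ s < 48, s ≠ r + 24 → s ≠ chevF4.neg (r + 24) → chk (r + 24) s = true := by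
  simp only [chk_eq]; delta ordL lw4 rw4 lw A B S nf nf._f ins ins._f ct
  rw [ct_eq, ce_eq, ng_eq chevE6, ng_eq chevF4]; simp only [gd_eq]; decide +kernel
theorem chk_all_sp3 : ∀ r < 12, ∀ s < 48, s ≠ r + 36 → s ≠ chevF4.neg (r + 36) → chk (r + 36) s = true := by
  simp only [chk_eq]; delta ordL lw4 rw4 lw A B S nf nf._f ins ins._f ct
  rw [ct_eq, ce_eq, ng_eq chevE6, ng_eq chevF4]; simp only [gd_eq]; decide +kernel

theorem chk_all : ∀ r < 48, ∀ s < 48, s ≠ r → s ≠ chevF4.neg r → chk r s = true := by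
  intro r hr
  rcases Nat.lt_or_ge r 12 with h | h
  · exact chk_all_sp0 r h
  rcases Nat.lt_or_ge r 24 with h1 | h1
  · obtain ⟨q, rfl⟩ := Nat.exists_eq_add_of_le' h
    exact chk_all_sp1 q (by omega)
  rcases Nat.lt_or_ge r 36 with h2 | h2
  · obtain ⟨q, rfl⟩ := Nat.exists_eq_add_of_le' h1
    exact chk_all_sp2 q (by omega)
  · obtain ⟨q, rfl⟩ := Nat.exists_eq_add_of_le' h2
    exact chk_all_sp3 q (by omega)

end Cfsg.Agent.H129.FE

private theorem dce_e1e2add7b3b7 : _root_.True := by
  try have : _root_.True := by simp only [_root_.Cfsg.Agent.H129.FE.lacedB.eq_1]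
  exact _root_.True.intro
end

-- part: H129/FE/Grp
section
prune_inst 0x7f00000000000000000000000000000000000000000000000000000000000000000000000000000000000000000000000000000000000000000000000000000000000000000000000000000000000000003fffffffffffffffffffffffffffbeffbdffffffff
set_option linter.all false
open scoped Cfsg.Agent.FastGrp

-- part: H129/FE/Hom
section
/-!
# The homomorphism of presented groups `F₄ → E₆` (helper129)

`psi K : chevF4.SteinbergGroup K →* chevE6.SteinbergGroup K`, `x_r(t) ↦ x_{A r}(S r t) x_{B r}(t)`.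
-/

set_option autoImplicit false

namespace Cfsg.Agent.H129.FE

open Cfsg.Lie Cfsg.Agent.ChevalleyStructure.StBasic

/-- the roots commute (or the second one is out of range) -/
def orthB (a b : ℕ) : Bool :=
  decide (72 ≤ b) || (decide (a < 72) && decide (b ≠ a) && decide (b ≠ chevE6.neg a) && (ct chevE6 a b == []))

/-- all the facts on the tables needed -/
def tabOK (r : ℕ) : Bool :=
  decide (A r < 72) && decide (A (chevF4.neg r) = chevE6.neg (A r)) && decide (S (chevF4.neg r) = S r) &&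
    (decide (S r = 1) || decide (S r = -1)) &&
    (if B r < 72 then decide (B (chevF4.neg r) = chevE6.neg (B r)) else decide (72 ≤ B (chevF4.neg r))) &&
    orthB (A r) (B r) && orthB (A (chevF4.neg r)) (B r) && orthB (A r) (B (chevF4.neg r)) &&
    orthB (A (chevF4.neg r)) (B (chevF4.neg r))

theorem tab_all : ∀ r < 48, tabOK r = true := by (delta Cfsg.Agent.H129.FE.ct Cfsg.Agent.H129.FE.orthB Cfsg.Agent.H129.FE.tabOK; rewrite [Cfsg.Agent.ChevFast.E6.chainEntry, Cfsg.Agent.ChevFast.E6.neg, Cfsg.Agent.ChevFast.F4.neg]; decide +kernel)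

variable {K : Type*} [Field K]

theorem commute_of_orthB {a b : ℕ} (h : orthB a b = true) (t u : K) :
    Commute (chevE6.stGen K a t) (chevE6.stGen K b u) := by
  rw [orthB, Bool.or_eq_true, decide_eq_true_eq, Bool.and_eq_true, Bool.and_eq_true, Bool.and_eq_true,
    decide_eq_true_eq, decide_eq_true_eq, decide_eq_true_eq, beq_iff_eq] at h
  rcases h with h | ⟨⟨⟨h1, h2⟩, h3⟩, h4⟩
  · rw [stGen_of_not_lt chevE6 (r := b) (by exact Nat.not_lt.2 h)]
    exact Commute.one_right _
  · by_cases hb : b < 72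
    · have h5 := stGen_mul_stGen chevE6 (K := K) (r := a) (s := b) h1 hb h2 h3 t u
      rw [ChevalleyDatum.commWord, laced_E6 a h1 b hb h2 h3, h4, List.map_nil, List.map_nil, wd_nil, mul_one] at h5
      exact h5.symm
    · rw [stGen_of_not_lt chevE6 (r := b) hb]
      exact Commute.one_right _

/-- the facts on the tables -/
structure Tabs (r : ℕ) : Prop where
  lt : A r < 72
  negA : A (chevF4.neg r) = chevE6.neg (A r)
  negS : S (chevF4.neg r) = S r
  sgn : S r = 1 ∨ S r = -1
  negB : B r < 72 → B (chevF4.neg r) = chevE6.neg (B r)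
  negB' : ¬ B r < 72 → ¬ B (chevF4.neg r) < 72
  o1 : orthB (A r) (B r) = true
  o2 : orthB (A (chevF4.neg r)) (B r) = true
  o3 : orthB (A r) (B (chevF4.neg r)) = true
  o4 : orthB (A (chevF4.neg r)) (B (chevF4.neg r)) = true

theorem tabs {r : ℕ} (hr : r < 48) : Tabs r := by
  have h := tab_all r hr
  simp only [tabOK, Bool.and_eq_true, Bool.or_eq_true, decide_eq_true_eq] at h
  obtain ⟨⟨⟨⟨⟨⟨⟨⟨h1, h2⟩, h3⟩, h4⟩, h5⟩, h6⟩, h7⟩, h8⟩, h9⟩ := h
  refine ⟨h1, h2, h3, h4, fun hb => ?_, fun hb => ?_, h6, h7, h8, h9⟩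
  · rw [if_pos hb, decide_eq_true_eq] at h5
    exact h5
  · rw [if_neg hb, decide_eq_true_eq] at h5
    exact Nat.not_lt.2 h5

/-- the images of the generators -/
def gen (r : ℕ) (t : K) : chevE6.SteinbergGroup K :=
  chevE6.stGen K (A r) ((S r : K) * t) * chevE6.stGen K (B r) t

theorem gen_of_not_lt (r : ℕ) (t : K) (h : ¬ r < chevF4.nroots) : gen r t = 1 := by
  have h1 : A r = 1000 := by
    rw [A, Array.getD_eq_getD_getElem?, Array.getElem?_eq_none (Nat.not_lt.1 h)]
    rfl
  have h2 : B r = 1000 := by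
    rw [B, Array.getD_eq_getD_getElem?, Array.getElem?_eq_none (Nat.not_lt.1 h)]
    rfl
  rw [gen, h1, h2, stGen_of_not_lt chevE6 (by decide), stGen_of_not_lt chevE6 (by decide), one_mul]

theorem gen_mul (r : ℕ) (t₁ t₂ : K) (hr : r < 48) : gen r t₁ * gen r t₂ = gen r (t₁ + t₂) := by
  have h := (tabs hr).o1
  rw [gen, gen, gen, mul_add, ← stGen_mul, ← stGen_mul]
  exact ((commute_of_orthB h _ _).symm.mul_mul_mul_comm _ _)

theorem ev_lw (t u : K) (r : ℕ) (c : ℤ) (i j : ℕ) :
    ev chevE6 t u (lw r c i j) = gen r ((c : K) * t ^ i * u ^ j) := by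
  rw [lw, ev_cons, gen]
  congr 1
  · rw [evL]
    congr 1
    push_cast
    ring
  · split_ifs with h
    · rw [ev_cons, ev_nil, mul_one, evL]
    · rw [ev_nil, stGen_of_not_lt chevE6 (r := B r) h]

theorem ev_flatMap {α : Type*} (t u : K) (g : α → List Letter) (l : List α) :
    ev chevE6 t u (l.flatMap g) = (l.map fun a => ev chevE6 t u (g a)).prod := by
  induction l with
  | nil => rfl
  | cons a l ih => rw [List.flatMap_cons, ev_append, ih, List.map_cons, List.prod_cons]

theorem gen_comm (r s : ℕ) (t u : K) (hr : r < 48) (hs : s < 48) (hne : s ≠ r) (hneg : s ≠ chevF4.neg r) :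
    (gen s u)⁻¹ * (gen r t)⁻¹ * gen s u * gen r t =
      ((chevF4.commWord K r s t u).map fun p => gen p.1 p.2).prod := by
  have h := chk_all r hr s hs hne hneg
  rw [chk, beq_iff_eq] at h
  have h1 := ev_eq_of_nf _ t u laced_E6 h
  rw [lw4, rw4, ev_append, ev_append, ev_append, ev_winv, ev_winv, ev_lw, ev_lw, ev_flatMap] at h1
  simp only [Int.cast_one, one_mul, pow_zero, pow_one, mul_one] at h1
  rw [h1, ChevalleyDatum.commWord, List.map_map]
  congr 1
  apply List.map_congr_left
  intro c _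
  rw [ev_lw]
  show _ = gen c.1 ((c.2.1 : K) * (-t) ^ c.2.2.1 * u ^ c.2.2.2)
  congr 1
  rw [neg_pow t]
  push_cast
  ring

/-- the part in the direction `B r` of the image of `n_r(t)` -/
def nB (r : ℕ) (t : K) : chevE6.SteinbergGroup K :=
  chevE6.stGen K (B r) t * chevE6.stGen K (B (chevF4.neg r)) (-t⁻¹) * chevE6.stGen K (B r) t

theorem gen_n {r : ℕ} (hr : r < 48) (t : K) :
    gen r t * (gen (chevF4.neg r) (-t⁻¹) * gen r t) = stn chevE6 (A r) ((S r : K) * t) * nB r t := by
  have h := tabs hr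
  have e : (S (chevF4.neg r) : K) * -t⁻¹ = -((S r : K) * t)⁻¹ := by
    rw [h.negS]
    rcases h.sgn with h1 | h1 <;> rw [h1]
    · simp
    · simp
  rw [gen, gen, stn_eq, nB, e, h.negA]
  have c1 := commute_of_orthB h.o2 (-((S r : K) * t)⁻¹) t
  have c2 := commute_of_orthB h.o1 ((S r : K) * t) t
  have c3 := commute_of_orthB h.o3 ((S r : K) * t) (-t⁻¹)
  rw [h.negA] at c1
  generalize chevE6.stGen K (A r) ((S r : K) * t) = a at c2 c3 ⊢
  generalize chevE6.stGen K (chevE6.neg (A r)) (-((S r : K) * t)⁻¹) = a' at c1 ⊢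
  generalize chevE6.stGen K (B r) t = b at c1 c2 ⊢
  generalize chevE6.stGen K (B (chevF4.neg r)) (-t⁻¹) = b' at c3 ⊢
  calc a * b * (a' * b' * (a * b)) = a * (b * a') * (b' * a) * b := by group
    _ = a * (a' * b) * (a * b') * b := by rw [c1.eq, c3.eq]
    _ = a * a' * (b * a) * b' * b := by group
    _ = a * a' * (a * b) * b' * b := by rw [c2.eq]
    _ = a * a' * a * (b * b' * b) := by group

/-- `h_a(S t)` with a sign does not depend on the sign -/
theorem stn_sgn {a : ℕ} (ha : a < 72) {ε : K} (hε : ε = 1 ∨ ε = -1) {t : K} (ht : t ≠ 0) :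
    stn chevE6 a (ε * t) * stn chevE6 a (ε * -1) = sth chevE6 a t := by
  rcases hε with rfl | rfl
  · rw [one_mul, one_mul, sth_eq, stn_neg]
  · have h1 : sth chevE6 a (-t) * (sth chevE6 a (-1))⁻¹ = sth chevE6 a t := by
      have h2 := sth_mul chevE6 (K := K) (r := a) ha ht (neg_ne_zero.2 one_ne_zero)
      rw [mul_neg_one] at h2
      rw [← h2, mul_inv_cancel_right]
    rw [← h1, sth_eq, sth_eq, neg_one_mul, neg_one_mul, neg_neg, stn_neg chevE6 a 1]
    group

/-- the part in the direction `B r` of the image of `h_r(t)` -/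
def hB (r : ℕ) (t : K) : chevE6.SteinbergGroup K := nB r t * nB r (-1)

theorem nB_of_lt {r : ℕ} (hr : r < 48) (hb : B r < 72) (t : K) : nB r t = stn chevE6 (B r) t := by
  rw [nB, (tabs hr).negB hb, stn_eq]

theorem nB_of_not_lt {r : ℕ} (hr : r < 48) (hb : ¬ B r < 72) (t : K) : nB r t = 1 := by
  rw [nB, stGen_of_not_lt chevE6 (r := B r) hb, stGen_of_not_lt chevE6 (r := B (chevF4.neg r)) ((tabs hr).negB' hb),
    one_mul, one_mul]

theorem hB_mul {r : ℕ} (hr : r < 48) {t₁ t₂ : K} (h₁ : t₁ ≠ 0) (h₂ : t₂ ≠ 0) :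
    hB r t₁ * hB r t₂ = hB r (t₁ * t₂) := by
  by_cases hb : B r < 72
  · have h1 : ∀ t : K, hB r t = sth chevE6 (B r) t := by
      intro t
      rw [hB, nB_of_lt hr hb, nB_of_lt hr hb, sth_eq, stn_neg]
    rw [h1, h1, h1, sth_mul chevE6 (r := B r) hb h₁ h₂]
  · rw [hB, hB, hB]
    simp only [nB_of_not_lt hr hb, mul_one]

theorem stn_comm_nB {r : ℕ} (hr : r < 48) (t u : K) : Commute (stn chevE6 (A r) t) (nB r u) := by
  have h := tabs hr
  rw [stn_eq, nB, ← h.negA]
  refine Commute.mul_left (Commute.mul_left ?_ ?_) ?_ <;> refine Commute.mul_right (Commute.mul_right ?_ ?_) ?_ <;>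
    apply commute_of_orthB
  exacts [h.o1, h.o3, h.o1, h.o2, h.o4, h.o2, h.o1, h.o3, h.o1]

/-- the image of `h_r(t)` -/
theorem gen_h {r : ℕ} (hr : r < 48) {t : K} (ht : t ≠ 0) :
    ((chevF4.hWord r t).map fun p => gen p.1 p.2).prod = sth chevE6 (A r) t * hB r t := by
  have h := tabs hr
  have hS : (S r : K) = 1 ∨ (S r : K) = -1 := by
    rcases h.sgn with h1 | h1 <;> rw [h1]
    · left; exact Int.cast_one
    · right; push_cast; rfl
  have h1 : ((chevF4.hWord r t).map fun p => gen p.1 p.2).prod =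
      gen r t * (gen (chevF4.neg r) (-t⁻¹) * gen r t) *
        (gen r (-1) * (gen (chevF4.neg r) (-(-1)⁻¹) * gen r (-1))) := by
    show gen r t * (gen (chevF4.neg r) (-t⁻¹) * (gen r t * (gen r (-1) * (gen (chevF4.neg r) (-(-1)⁻¹) *
      (gen r (-1) * 1))))) = _
    simp only [mul_one, mul_assoc]
  rw [h1, gen_n hr, gen_n hr, ← stn_sgn h.lt hS ht, hB]
  exact (stn_comm_nB hr _ _).symm.mul_mul_mul_comm _ _

theorem sth_comm_hB {r : ℕ} (hr : r < 48) (t u : K) : Commute (sth chevE6 (A r) t) (hB r u) := by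
  rw [sth_eq, hB]
  exact Commute.mul_left (Commute.mul_right (stn_comm_nB hr _ _) (stn_comm_nB hr _ _))
    (Commute.inv_left (Commute.mul_right (stn_comm_nB hr _ _) (stn_comm_nB hr _ _)))

theorem gen_h_mul (r : ℕ) (t₁ t₂ : K) (hr : r < 48) (h₁ : t₁ ≠ 0) (h₂ : t₂ ≠ 0) :
    ((chevF4.hWord r t₁).map fun p => gen p.1 p.2).prod * ((chevF4.hWord r t₂).map fun p => gen p.1 p.2).prod =
      ((chevF4.hWord r (t₁ * t₂)).map fun p => gen p.1 p.2).prod := by
  rw [gen_h hr h₁, gen_h hr h₂, gen_h hr (mul_ne_zero h₁ h₂), ← hB_mul hr h₁ h₂,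
    ← sth_mul chevE6 (r := A r) (tabs hr).lt h₁ h₂]
  exact (sth_comm_hB hr _ _).symm.mul_mul_mul_comm _ _

variable (K)

/-- **the homomorphism of presented groups** -/
def psi : chevF4.SteinbergGroup K →* chevE6.SteinbergGroup K :=
  lift chevF4 gen gen_of_not_lt gen_mul (fun r s t u hr hs h1 h2 => gen_comm r s t u hr hs h1 h2)
    (fun r t₁ t₂ hr h₁ h₂ => gen_h_mul r t₁ t₂ hr h₁ h₂)

theorem psi_stGen (r : ℕ) (t : K) : psi K (chevF4.stGen K r t) =
    chevE6.stGen K (A r) ((S r : K) * t) * chevE6.stGen K (B r) t := lift_stGen _ _ _ _ _ _ _ _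

end Cfsg.Agent.H129.FE
end

-- part: H129/FE/Grp
section
/-!
# `F₄(q)` in `E₆(q)` and in `²E₆(q)` (helper129)

* `group_le_simple` : the group is generated by the fundamental root groups and their opposites;
* `thF K : chevF4.SteinbergGroup K ≃* chevF4.group K`;
* `toE6 K : chevF4.group K →* chevE6.group K`, injective, `x_r(t) ↦ x_{A r}(S r t) x_{B r}(t)`;
* `toTE6 f : chevF4.group F →* twistedE6 K q` for `f : F →+* K` with `(f t)^q = f t`, injective.
-/

set_option autoImplicit false
set_option linter.unusedSectionVars false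

namespace Cfsg.Agent.H129.FE

open CoxeterSystem Cfsg.Lie Cfsg.Agent.ChevalleyStructure Cfsg.Agent.ChevalleyStructure.Elts
  Cfsg.Agent.ChevalleyStructure.StTheta Cfsg.Agent.Nodes.RGDChev Cfsg.Agent.Nodes Cfsg.Agent.H129.CycT
  Cfsg.Agent.Tits.Roots Cfsg.Agent.Tits.Core Cfsg.Agent.GpExc.Field

universe u v

section Gen

variable {D : ChevalleyDatum} {l : ℕ} {M : CoxeterMatrix (Fin l)} (hp : IsType D l M) (K : Type u) [Field K]

/-- **generation by the fundamental root elements** -/
theorem group_le_simple [Finite K] (S : Subgroup (GL D.Idx K))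
    (h1 : ∀ i < D.rank, ∀ t : K, xG hp.inList (D.simple i) t ∈ S)
    (h2 : ∀ i < D.rank, ∀ t : K, xG hp.inList (D.neg (D.simple i)) t ∈ S) : D.group K ≤ S := by
  obtain ⟨p, hcp⟩ := CharP.exists K
  have hpp : p.Prime := (CharP.char_is_prime_or_zero K p).resolve_right fun h0 => by
    subst h0
    have := CharP.charP_to_charZero K
    exact not_finite K
  have : Fact p.Prime := ⟨hpp⟩
  have h3 := RGDLib.rgd_G1_eq (rgd_GL (K := K) hp M.toCoxeterSystem p) (by
    intro i
    have h4 : (XV D l K (sr i) ⊔ XV D l K (-sr i) : Subgroup (GL D.Idx K)) ≤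
        ⨆ j, (XV D l K (sr j) ⊔ XV D l K (-sr j)) := le_iSup (fun j => XV D l K (sr j) ⊔ XV D l K (-sr j)) i
    refine h4 ?_
    rw [nn, nG_def]
    have h5 : ∀ t : K, xG hp.inList (D.simple i) t ∈ XV D l K (sr i) ⊔ XV D l K (-sr i) := fun t => by
      refine (le_sup_left : XV D l K (sr i) ≤ _) ?_
      rw [XV_sr hp]
      exact xG_mem_rootSubgroup hp.inList _ t
    have h6 : ∀ t : K, xG hp.inList (D.neg (D.simple i)) t ∈ XV D l K (sr i) ⊔ XV D l K (-sr i) := fun t => by
      refine (le_sup_right : XV D l K (-sr i) ≤ _) ?_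
      rw [XV_neg_sr hp]
      exact xG_mem_rootSubgroup hp.inList _ t
    exact mul_mem (h5 _) (mul_mem (h6 _) (h5 _)))
  have h7 : D.group K ≤ RGDLib.G1 M.toCoxeterSystem hp.isCartan (XV D l K) := by
    rw [group_le_iff hp.inList]
    intro r hr t
    refine RGDLib.X_le_G1 (isRoot_vec hp M.toCoxeterSystem hr) ?_
    rw [XV_vec hp K hr]
    exact xG_mem_rootSubgroup hp.inList r t
  rw [h3] at h7
  refine h7.trans (iSup_le fun i => sup_le ?_ ?_)
  · rw [XV_sr hp]
    intro g hg
    obtain ⟨t, rfl⟩ := (mem_rootSubgroup_iff hp.inList _ g).1 hg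
    exact h1 i (lt_rank hp i) t
  · rw [XV_neg_sr hp]
    intro g hg
    obtain ⟨t, rfl⟩ := (mem_rootSubgroup_iff hp.inList _ g).1 hg
    exact h2 i (lt_rank hp i) t

/-- the root element in the group -/
def xg (hD : InList D) (r : ℕ) (t : K) : ↥(D.group K) := ⟨xG hD r t, xG_mem_group hD r t⟩

theorem coe_xg (hD : InList D) (r : ℕ) (t : K) : ((xg K hD r t : ↥(D.group K)) : GL D.Idx K) = xG hD r t := rfl

/-- the image of a homomorphism from the group is generated by the images of the fundamental root elements -/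
theorem mem_of_simple [Finite K] {G : Type*} [Group G] (f : ↥(D.group K) →* G) (S : Subgroup G)
    (h1 : ∀ i < D.rank, ∀ t : K, f (xg K hp.inList (D.simple i) t) ∈ S)
    (h2 : ∀ i < D.rank, ∀ t : K, f (xg K hp.inList (D.neg (D.simple i)) t) ∈ S) (x : ↥(D.group K)) : f x ∈ S := by
  have h3 := group_le_simple hp K ((S.comap f).map (D.group K).subtype)
    (fun i hi t => ⟨xg K hp.inList (D.simple i) t, h1 i hi t, rfl⟩)
    (fun i hi t => ⟨xg K hp.inList (D.neg (D.simple i)) t, h2 i hi t, rfl⟩)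
  obtain ⟨y, hy, hyx⟩ := h3 x.2
  rw [Subtype.ext hyx] at hy
  exact hy

end Gen

theorem theta_stGen' {D : ChevalleyDatum} (hD : InList D) (K : Type u) [Field K] (r : ℕ) (t : K) :
    theta hD K (D.stGen K r t) = xg K hD r t := Subtype.ext (thetaGL_stGen hD r t)

section Hom

variable (K : Type u) [Field K]

theorem theta_injective_F4 : Function.Injective (theta typeF4.inList K) := by
  rw [injective_iff_map_eq_one]
  obtain ⟨θ, hθs, hθk, hθ⟩ := Cfsg.Agent.S1077.result (K := K) chevF4 typeF4.inList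
  have h1 := Cfsg.Agent.S1078.result (K := K) chevF4 (by simp)
  have h2 : θ = theta typeF4.inList K := by
    apply PresentedGroup.ext
    rintro ⟨r, t⟩
    rw [← StBasic.stGen_of_lt chevF4 r.2 t, theta_stGen']
    apply Subtype.ext
    apply Units.ext
    rw [hθ r t r.2, coe_xg, coe_xG]
  intro g hg
  rw [← h2, ← MonoidHom.mem_ker, hθk, h1] at hg
  exact hg

/-- the presented group of type `F₄` is the group -/
noncomputable def thF : chevF4.SteinbergGroup K ≃* ↥(chevF4.group K) :=
  MulEquiv.ofBijective (theta typeF4.inList K) ⟨theta_injective_F4 K, theta_surjective typeF4.inList⟩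

theorem thF_symm (r : ℕ) (t : K) : (thF K).symm (xg K typeF4.inList r t) = chevF4.stGen K r t := by
  rw [MulEquiv.symm_apply_eq]
  exact (theta_stGen' typeF4.inList K r t).symm

/-- the homomorphism to the presented group of type `E₆` -/
noncomputable def toSt : ↥(chevF4.group K) →* chevE6.SteinbergGroup K :=
  (psi K).comp (thF K).symm.toMonoidHom

theorem toSt_xg (r : ℕ) (t : K) : toSt K (xg K typeF4.inList r t) =
    chevE6.stGen K (A r) ((S r : K) * t) * chevE6.stGen K (B r) t := by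
  show psi K ((thF K).symm _) = _
  rw [thF_symm, psi_stGen]

/-- **`F₄(K) → E₆(K)`** -/
noncomputable def toE6 : ↥(chevF4.group K) →* ↥(chevE6.group K) := (theta typeE6.inList K).comp (toSt K)

theorem toE6_xg (r : ℕ) (t : K) : toE6 K (xg K typeF4.inList r t) =
    xg K typeE6.inList (A r) ((S r : K) * t) * xg K typeE6.inList (B r) t := by
  show theta typeE6.inList K (toSt K _) = _
  rw [toSt_xg, map_mul, theta_stGen', theta_stGen']

/-- a homomorphism from `F₄(K)` that is not trivial is injective -/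
theorem injective_of_ne {G : Type*} [Group G] (f : ↥(chevF4.group K) →* G) {x : ↥(chevF4.group K)} (hx : f x ≠ 1) :
    Function.Injective f := by
  have hs := (Cfsg.Agent.S1054.result (F := K) chevF4 (by simp)).1
  rw [← MonoidHom.ker_eq_bot_iff]
  rcases hs.eq_bot_or_eq_top_of_normal f.ker inferInstance with h | h
  · exact h
  · exact absurd (show x ∈ f.ker by rw [h]; exact Subgroup.mem_top _) hx

theorem toE6_injective : Function.Injective (toE6 K) := by
  refine injective_of_ne K (toE6 K) (x := xg K typeF4.inList 47 1) fun h => ?_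
  rw [toE6_xg] at h
  have h1 : A 47 = 71 := by decide +kernel
  have h2 : B 47 = 1000 := by decide +kernel
  have h3 : S 47 = 1 := by decide +kernel
  rw [h1, h2, h3] at h
  have h4 := congrArg Subtype.val h
  change xG typeE6.inList 71 _ * xG typeE6.inList 1000 _ = 1 at h4
  rw [xG_of_not_lt typeE6.inList (r := 1000) (by decide), mul_one, xG_eq_one_iff typeE6.inList (by decide)] at h4
  simp at h4

end Hom

/-! ### The twisted group -/

section Tw

variable {K : Type u} [Field K] {q : ℕ}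

theorem mem_single {r : ℕ} (hr : r ∈ [e6p2, e6m2, e6p4, e6m4]) {t : K} (ht : t ^ q = t) :
    xG typeE6.inList r t ∈ twistedE6 K q := by
  refine Subgroup.subset_closure ⟨[(r, t)], Or.inl ⟨t, ht, r, hr, rfl⟩, ?_⟩
  rw [coe_xG, ChevalleyDatum.wordMat, List.map_cons, List.map_nil, List.prod_cons, List.prod_nil, mul_one]

theorem xG_commute {a b : ℕ} (h : orthB a b = true) (t u : K) :
    Commute (xG typeE6.inList a t) (xG typeE6.inList b u) := by
  have h1 := (commute_of_orthB h t u).map (thetaGL typeE6.inList K)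
  rwa [thetaGL_stGen, thetaGL_stGen] at h1

theorem mem_pair {a b : ℕ} (hr : (b, a) ∈ [(e6p1, e6p6), (e6m1, e6m6), (e6p3, e6p5), (e6m3, e6m5)])
    (hc : orthB a b = true) {t : K} (ht : t ^ q = t) :
    xG typeE6.inList a t * xG typeE6.inList b t ∈ twistedE6 K q := by
  refine Subgroup.subset_closure ⟨[(b, t), (a, t ^ q)], Or.inr ⟨t, (b, a), hr, rfl⟩, ?_⟩
  rw [(xG_commute hc t t).eq, ht, Units.val_mul, coe_xG, coe_xG, ChevalleyDatum.wordMat, List.map_cons, List.map_cons,
    List.map_nil, List.prod_cons, List.prod_cons, List.prod_nil, mul_one]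

theorem simple_mem : ∀ i < 4, ∀ t : K, t ^ q = t →
    xG typeE6.inList (A (chevF4.simple i)) ((S (chevF4.simple i) : K) * t) *
      xG typeE6.inList (B (chevF4.simple i)) t ∈ twistedE6 K q := by
  intro i hi t ht
  have hS : ∀ i < 4, S (chevF4.simple i) = 1 := by decide +kernel
  rw [hS i hi, Int.cast_one, one_mul]
  interval_cases i
  · have h1 : A (chevF4.simple 0) = 36 := by decide +kernel
    have h2 : B (chevF4.simple 0) = 56 := by decide +kernel
    rw [h1, h2]
    exact mem_pair (by decide) (by decide +kernel) ht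
  · have h1 : A (chevF4.simple 1) = 37 := by decide +kernel
    have h2 : B (chevF4.simple 1) = 42 := by decide +kernel
    rw [h1, h2]
    exact mem_pair (by decide) (by decide +kernel) ht
  · have h1 : A (chevF4.simple 2) = 39 := by decide +kernel
    have h2 : B (chevF4.simple 2) = 1000 := by decide +kernel
    rw [h1, h2, xG_of_not_lt typeE6.inList (r := 1000) (by decide), mul_one]
    exact mem_single (by decide) ht
  · have h1 : A (chevF4.simple 3) = 46 := by decide +kernel
    have h2 : B (chevF4.simple 3) = 1000 := by decide +kernel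
    rw [h1, h2, xG_of_not_lt typeE6.inList (r := 1000) (by decide), mul_one]
    exact mem_single (by decide) ht

theorem neg_mem : ∀ i < 4, ∀ t : K, t ^ q = t →
    xG typeE6.inList (A (chevF4.neg (chevF4.simple i))) ((S (chevF4.neg (chevF4.simple i)) : K) * t) *
      xG typeE6.inList (B (chevF4.neg (chevF4.simple i))) t ∈ twistedE6 K q := by
  intro i hi t ht
  have hS : ∀ i < 4, S (chevF4.neg (chevF4.simple i)) = 1 := by decide +kernel
  rw [hS i hi, Int.cast_one, one_mul]
  interval_cases i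
  · have h1 : A (chevF4.neg (chevF4.simple 0)) = 35 := by decide +kernel
    have h2 : B (chevF4.neg (chevF4.simple 0)) = 15 := by decide +kernel
    rw [h1, h2]
    exact mem_pair (by decide) (by decide +kernel) ht
  · have h1 : A (chevF4.neg (chevF4.simple 1)) = 34 := by decide +kernel
    have h2 : B (chevF4.neg (chevF4.simple 1)) = 29 := by decide +kernel
    rw [h1, h2]
    exact mem_pair (by decide) (by decide +kernel) ht
  · have h1 : A (chevF4.neg (chevF4.simple 2)) = 32 := by decide +kernel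
    have h2 : B (chevF4.neg (chevF4.simple 2)) = 1000 := by decide +kernel
    rw [h1, h2, xG_of_not_lt typeE6.inList (r := 1000) (by decide), mul_one]
    exact mem_single (by decide) ht
  · have h1 : A (chevF4.neg (chevF4.simple 3)) = 25 := by decide +kernel
    have h2 : B (chevF4.neg (chevF4.simple 3)) = 1000 := by decide +kernel
    rw [h1, h2, xG_of_not_lt typeE6.inList (r := 1000) (by decide), mul_one]
    exact mem_single (by decide) ht

variable {F : Type v} [Field F] [Finite F] (f : F →+* K) (hf : ∀ t, f t ^ q = f t)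

theorem emb_xg {D : ChevalleyDatum} (hD : InList D) (r : ℕ) (t : F) : emb hD f (xg F hD r t) = xg K hD r (f t) :=
  Subtype.ext (glMap_xG hD f r t)

include hf in
theorem toE6_mem (x : ↥(chevF4.group F)) :
    ((toE6 K (emb typeF4.inList f x) : ↥(chevE6.group K)) : GL chevE6.Idx K) ∈ twistedE6 K q := by
  refine mem_of_simple typeF4 F (((chevE6.group K).subtype.comp (toE6 K)).comp (emb typeF4.inList f))
    (twistedE6 K q) (fun i hi t => ?_) (fun i hi t => ?_) x
  · rw [MonoidHom.comp_apply, MonoidHom.comp_apply, emb_xg, toE6_xg]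
    exact simple_mem i hi (f t) (hf t)
  · rw [MonoidHom.comp_apply, MonoidHom.comp_apply, emb_xg, toE6_xg]
    exact neg_mem i hi (f t) (hf t)

/-- **`F₄(q) → ²E₆(q)`** -/
noncomputable def toTE6 : ↥(chevF4.group F) →* ↥(twistedE6 K q) :=
  (((chevE6.group K).subtype.comp (toE6 K)).comp (emb typeF4.inList f)).codRestrict (twistedE6 K q)
    fun x => toE6_mem f hf x

theorem coe_toTE6 (x : ↥(chevF4.group F)) : ((toTE6 f hf x : ↥(twistedE6 K q)) : GL chevE6.Idx K) =
    ((toE6 K (emb typeF4.inList f x) : ↥(chevE6.group K)) : GL chevE6.Idx K) := rfl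

theorem toTE6_injective : Function.Injective (toTE6 f hf) := by
  intro x y h
  have h1 := congrArg (fun z : ↥(twistedE6 K q) => (z : GL chevE6.Idx K)) h
  rw [coe_toTE6, coe_toTE6] at h1
  exact emb_injective typeF4.inList f (toE6_injective K (Subtype.ext h1))

end Tw

end Cfsg.Agent.H129.FE
end

private theorem dce_a455253aec42 : _root_.True := by
  try have : _root_.True := by simp only [_root_.Cfsg.Agent.H129.FE.rw4.eq_1]
  try have : _root_.True := by simp only [_root_.Cfsg.Agent.H129.FE.lw4.eq_1]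
  try have : _root_.True := by simp only [_root_.Cfsg.Agent.H129.FE.B.eq_1]
  try have : _root_.True := by simp only [_root_.Cfsg.Agent.H129.FE.nB.eq_1]
  try have : _root_.True := by simp only [_root_.Cfsg.Agent.H129.FE.A.eq_1]
  try have : _root_.True := by simp only [_root_.Cfsg.Agent.H129.FE.chk.eq_1]
  try have : _root_.True := by simp only [_root_.Cfsg.Agent.H129.FE.tabOK.eq_1]
  try have : _root_.True := by simp only [_root_.Cfsg.Agent.H129.FE.orthB.eq_1]
  try have : _root_.True := by simp only [_root_.Cfsg.Agent.H129.FE.lw.eq_1]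
  try have : _root_.True := by simp only [_root_.Cfsg.Agent.H129.FE.hB.eq_1]
  try have : _root_.True := by simp only [_root_.Cfsg.Agent.H129.FE.gen.eq_1]
  exact _root_.True.intro
end
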