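import Cfsg.Agent.H129.FE.Grp
import Cfsg.Agent.H129.CycCard
import Cfsg.Agent.H129.CycRow
import Cfsg.Agent.H425.KFix_m3
import Cfsg.Agent.S1062
import Cfsg.Agent.Prune
set_option linter.all false
prune_inst 0x7f00000000000000000000000000000000000000000000000000000000000000000000000000000000000000000000000000000000000000000000000000000000000000000000000000000000000000003fffffffffffffffffffffffffffbeffbdffffffff
open scoped Cfsg.Agent.FastGrp

/-!
# Fixed vectors for `E₆(q)` and `²E₆(q)` from `F₄(q)` (helper129)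
-/

set_option autoImplicit false
set_option linter.unusedSectionVars false

namespace Cfsg.Agent.H129.FE

open CoxeterSystem Cfsg.Lie Cfsg.Agent.H129 Cfsg.Agent.H129.CycT Cfsg.Agent.H129.CycCard Cfsg.Agent.H425.KFix

universe u v w

section Abs

theorem fixAll_pow {p : ℕ} {H : Type v} [Group H] {x : H} (h : FixAll.{u} p x) (n : ℕ) : FixAll.{u} p (x ^ n) := by
  intro W _ _ _ _ ρ
  obtain ⟨w, hw, h1⟩ := h W ρ
  refine ⟨w, hw, ?_⟩
  induction n with
  | zero => rw [pow_zero, map_one]; rfl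
  | succ n ih =>
    rw [pow_succ, map_mul]
    show ρ (x ^ n) (ρ x w) = w
    rw [h1, ih]

theorem fixAll_of_conj {p : ℕ} {H : Type v} [Group H] {x g : H} (h : FixAll.{u} p (g * x * g⁻¹)) :
    FixAll.{u} p x := by
  intro W _ _ _ _ ρ
  obtain ⟨w, hw, h1⟩ := h W ρ
  refine ⟨ρ g⁻¹ w, fun h0 => hw ?_, ?_⟩
  · have h2 : ρ g (ρ g⁻¹ w) = w := by
      show (ρ g * ρ g⁻¹) w = w
      rw [← map_mul, mul_inv_cancel, map_one]
      rfl
    rw [← h2, h0, map_zero]
  · rw [map_mul, map_mul] at h1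
    have h2 : ρ g (ρ x (ρ g⁻¹ w)) = w := h1
    calc ρ x (ρ g⁻¹ w) = (ρ g⁻¹ * ρ g) (ρ x (ρ g⁻¹ w)) := by
          rw [← map_mul, inv_mul_cancel, map_one]
          rfl
      _ = ρ g⁻¹ (ρ g (ρ x (ρ g⁻¹ w))) := rfl
      _ = ρ g⁻¹ w := by rw [h2]

/-- elements of the same order of a finite cyclic group generate the same subgroup -/
theorem mem_zpowers_of_cyclic {T : Type*} [Group T] [Finite T] [IsCyclic T] {r : ℕ} (hr : 0 < r) {x y : T}
    (hx : x ^ r = 1) (hy : orderOf y = r) : x ∈ Subgroup.zpowers y := by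
  classical
  have := Fintype.ofFinite T
  have h1 := IsCyclic.card_pow_eq_one_le (α := T) hr
  have h2 : (Finset.univ.filter fun z : T => z ∈ Subgroup.zpowers y) ⊆ Finset.univ.filter fun z : T => z ^ r = 1 := by
    intro z hz
    rw [Finset.mem_filter] at hz ⊢
    refine ⟨hz.1, ?_⟩
    obtain ⟨k, rfl⟩ := hz.2
    show (y ^ k) ^ r = 1
    rw [← zpow_natCast, ← zpow_mul, mul_comm, zpow_mul, zpow_natCast, ← hy, pow_orderOf_eq_one, one_zpow]
  have h3 : (Finset.univ.filter fun z : T => z ∈ Subgroup.zpowers y).card = r := by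
    rw [← hy, ← Nat.card_zpowers, Nat.card_eq_fintype_card, Fintype.card_subtype]
  have h4 := Finset.eq_of_subset_of_card_le h2 (by rw [h3]; exact h1)
  have h5 : x ∈ Finset.univ.filter fun z : T => z ^ r = 1 := by
    rw [Finset.mem_filter]
    exact ⟨Finset.mem_univ _, hx⟩
  rw [← h4, Finset.mem_filter] at h5
  exact h5.2

/-- with an isolated cyclic torus, one element of order `r` decides -/
theorem fixAll_of_cyc {G : Type v} [Group G] [Finite G] {p r : ℕ} (hr : r.Prime) (h : CycAt G r) {y : G}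
    (hy : orderOf y = r) (hf : FixAll.{u} p y) {x : G} (hx : orderOf x = r) : FixAll.{u} p x := by
  obtain ⟨T, hc, hrT, hcent⟩ := h
  obtain ⟨g, hg, -⟩ := centralizer_conj hc hr hrT hcent hx
  obtain ⟨h, hh, -⟩ := centralizer_conj hc hr hrT hcent hy
  -- the two conjugates generate the same subgroup of the cyclic group `T`
  have hxo : orderOf (g * x * g⁻¹) = r := by
    rw [← hx]
    exact orderOf_injective (MulAut.conj g).toMonoidHom (MulAut.conj g).injective x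
  have hyo : orderOf (h * y * h⁻¹) = r := by
    rw [← hy]
    exact orderOf_injective (MulAut.conj h).toMonoidHom (MulAut.conj h).injective y
  have h1 : (⟨g * x * g⁻¹, hg⟩ : ↥T) ∈ Subgroup.zpowers (⟨h * y * h⁻¹, hh⟩ : ↥T) := by
    refine mem_zpowers_of_cyclic hr.pos ?_ (by rw [Subgroup.orderOf_mk, hyo])
    apply Subtype.ext
    show (g * x * g⁻¹) ^ r = 1
    rw [← hxo, pow_orderOf_eq_one]
  rw [← mem_powers_iff_mem_zpowers] at h1
  obtain ⟨n, hn⟩ := h1
  have h2 : (h * y * h⁻¹) ^ n = g * x * g⁻¹ := congrArg Subtype.val hn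
  have h6 : FixAll.{u} p (h * y * h⁻¹) := hf.map (MulAut.conj h).toMonoidHom
  have h7 := fixAll_pow h6 n
  rw [h2] at h7
  exact fixAll_of_conj h7

/-- transport along a homomorphism that is injective -/
theorem fixAll_of_emb {G : Type v} [Group G] [Finite G] {H : Type w} [Group H] (f : H →* G)
    (hf : Function.Injective f) {p r : ℕ} (hr : r.Prime) (h : CycAt G r) {y : H} (hy : orderOf y = r)
    (hfy : FixAll.{u} p y) {x : G} (hx : orderOf x = r) : FixAll.{u} p x :=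
  fixAll_of_cyc hr h (by rw [orderOf_injective f hf, hy]) (hfy.map f) hx

end Abs

section Rows

variable {F : Type v} [Field F] [Fintype F] {q : ℕ}

/-- **`E₆(q)`, `r ∣ Φ₁₂(q)`** -/
theorem fixAll_E6_12 (hq : Fintype.card F = q) {p r : ℕ} (hr : r.Prime)
    (h : (r : ℤ) ∣ 1 - (q : ℤ) ^ 2 + (q : ℤ) ^ 4) {y : ↥(chevF4.group F)} (hy : orderOf y = r)
    (hf : FixAll.{u} p y) {x : ↥(chevE6.group F)} (hx : orderOf x = r) : FixAll.{u} p x := by
  have hpos : (0 : ℤ) ≤ (1 - (q : ℤ) ^ 2 + (q : ℤ) ^ 4) * (1 + (q : ℤ) + (q : ℤ) ^ 2) := by nlinarith only [sq_nonneg ((q : ℤ) ^ 2 - 1), sq_nonneg (q : ℤ)]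
  exact fixAll_of_emb (toE6 F) (toE6_injective F) hr
    (card_E6_12 hq (m := ((1 - (q : ℤ) ^ 2 + (q : ℤ) ^ 4) * (1 + (q : ℤ) + (q : ℤ) ^ 2)).toNat)
      (Int.toNat_of_nonneg hpos) hr h).cycAt hy hf hx

/-- there is an element of order `r` in `F₄(q)` -/
theorem exists_F4 (hq : Fintype.card F = q) {r : ℕ} (hr : r.Prime) {d : ℕ} (hd : d ∣ 12 ∨ d ∣ 8)
    (h : r ∣ q ^ d - 1) : ∃ y : ↥(chevF4.group F), orderOf y = r := by
  have : Fact r.Prime := ⟨hr⟩
  apply exists_prime_orderOf_dvd_card' r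
  rw [Cfsg.Agent.S1062.result hq]
  rcases hd with hd | hd
  · exact Dvd.dvd.mul_left (h.trans (Nat.pow_sub_one_dvd_pow_sub_one q hd)) _
  · exact Dvd.dvd.mul_right (Dvd.dvd.mul_left (h.trans (Nat.pow_sub_one_dvd_pow_sub_one q hd)) _) _

theorem dvd_12 (hq1 : 1 ≤ q) {r : ℕ} (h : (r : ℤ) ∣ 1 - (q : ℤ) ^ 2 + (q : ℤ) ^ 4) : r ∣ q ^ 12 - 1 := by
  have h1 : (r : ℤ) ∣ (q : ℤ) ^ 12 - 1 := h.trans ⟨((q : ℤ) ^ 6 - 1) * ((q : ℤ) ^ 2 + 1), by ring⟩
  have h2 : ((q ^ 12 - 1 : ℕ) : ℤ) = (q : ℤ) ^ 12 - 1 := by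
    rw [Nat.cast_sub (Nat.one_le_pow _ _ hq1)]
    push_cast
    ring
  rw [← h2] at h1
  exact Int.natCast_dvd_natCast.1 h1

/-- **`E₆(q)`, `r ∣ Φ₁₂(q)`**, from the statement for `F₄(q)` -/
theorem fixAll_E6_12' (hq : Fintype.card F = q) {p r : ℕ} (hr : r.Prime)
    (h : (r : ℤ) ∣ 1 - (q : ℤ) ^ 2 + (q : ℤ) ^ 4) (hf : ∀ y : ↥(chevF4.group F), orderOf y = r → FixAll.{u} p y)
    {x : ↥(chevE6.group F)} (hx : orderOf x = r) : FixAll.{u} p x := by
  obtain ⟨y, hy⟩ := exists_F4 hq hr (Or.inl dvd_rfl) (dvd_12 (hq ▸ Fintype.card_pos) h)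
  exact fixAll_E6_12 hq hr h hy (hf y hy) hx

/-- the subfield with `q` elements -/
theorem exists_subfield {K : Type*} [Field K] [Fintype K] {q : ℕ} (hK : Fintype.card K = q ^ 2) :
    ∃ (F : Type) (_ : Field F) (_ : Fintype F), Fintype.card F = q ∧ ∃ f : F →+* K, ∀ t, f t ^ q = f t := by
  classical
  obtain ⟨p, hp⟩ := CharP.exists K
  obtain ⟨k, hpp, hk⟩ := FiniteField.card K p
  have : Fact p.Prime := ⟨hpp⟩
  have hdvd : q ∣ p ^ (k : ℕ) := by
    rw [← hk, hK]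
    exact dvd_pow_self q two_ne_zero
  obtain ⟨j, -, rfl⟩ := (Nat.dvd_prime_pow hpp).1 hdvd
  have hkj : (k : ℕ) = j * 2 := by
    rw [hk, ← pow_mul] at hK
    exact Nat.pow_right_injective hpp.two_le hK
  have hj : j ≠ 0 := by
    rintro rfl
    have := k.pos
    omega
  have : NeZero j := ⟨hj⟩
  let : Algebra (ZMod p) K := ZMod.algebra K p
  have hfr : Module.finrank (ZMod p) K = k := by
    have h1 := Module.card_eq_pow_finrank (K := ZMod p) (V := K)
    rw [ZMod.card, hk] at h1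
    exact (Nat.pow_right_injective hpp.two_le h1).symm
  have : Fintype (GaloisField p j) := Fintype.ofFinite _
  have hc : Fintype.card (GaloisField p j) = p ^ j := by
    rw [← Nat.card_eq_fintype_card, GaloisField.card p j hj]
  refine ⟨GaloisField p j, inferInstance, inferInstance, hc, ?_⟩
  obtain ⟨f⟩ := FiniteField.nonempty_algHom_of_finrank_dvd (F := ZMod p) (K := GaloisField p j)
    (L := K) (by rw [GaloisField.finrank p hj, hfr, hkj]; exact dvd_mul_right _ _)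
  refine ⟨f.toRingHom, fun t => ?_⟩
  rw [← map_pow, ← hc, FiniteField.pow_card]

/-- **`²E₆(q)`, `r ∣ Φ₁₂(q)`**, from the statement for `F₄(q)` -/
theorem fixAll_tE6_12' {K : Type v} [Field K] [Fintype K] (hqp : IsPrimePow q) (hK : Fintype.card K = q ^ 2)
    {p r : ℕ} (hr : r.Prime) (h : (r : ℤ) ∣ 1 - (q : ℤ) ^ 2 + (q : ℤ) ^ 4)
    (hf : ∀ (F : Type) [Field F] [Fintype F], Fintype.card F = q → ∀ y : ↥(chevF4.group F), orderOf y = r →
      FixAll.{u} p y) {x : ↥(twistedE6 K q)} (hx : orderOf x = r) : FixAll.{u} p x := by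
  obtain ⟨F, _, _, hF, f, hfq⟩ := exists_subfield hK
  obtain ⟨y, hy⟩ := exists_F4 hF hr (Or.inl dvd_rfl) (dvd_12 hqp.pos h)
  have hpos : (0 : ℤ) ≤ (1 - (q : ℤ) ^ 2 + (q : ℤ) ^ 4) * (1 - (q : ℤ) + (q : ℤ) ^ 2) := by
    have h1 : (0 : ℤ) ≤ 1 - (q : ℤ) ^ 2 + (q : ℤ) ^ 4 := by linarith only [sq_nonneg ((q : ℤ) ^ 2 - 1), sq_nonneg (q : ℤ)]
    have h2 : (0 : ℤ) ≤ 1 - (q : ℤ) + (q : ℤ) ^ 2 := by linarith only [sq_nonneg ((q : ℤ) - 1), sq_nonneg (q : ℤ)]
    (clear * - h1 h2; positivity)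
  exact fixAll_of_emb (toTE6 f hfq) (toTE6_injective f hfq) hr
    (card_tE6_12 hqp hK (m := ((1 - (q : ℤ) ^ 2 + (q : ℤ) ^ 4) * (1 - (q : ℤ) + (q : ℤ) ^ 2)).toNat)
      (Int.toNat_of_nonneg hpos) hr h).cycAt hy (hf F hF y hy) hx

end Rows

end Cfsg.Agent.H129.FE
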